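import Groth.Agent.CommAlgDim.CM
import Groth.Agent.NodalLib.DerIdeal
import Groth.Agent.CohenLib.FlatUnramified
import Groth.Agent.ArtLib.Power

/-! A local ring whose completion is a deformed node: approximate coordinates and the closed fibre. -/

set_option autoImplicit false
set_option backward.isDefEq.respectTransparency false
set_option backward.isDefEq.respectTransparency.types false

universe u

open IsLocalRing MvPowerSeries

noncomputable section

namespace NodeDefSmoothLib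

section Model

variable (Λ : Type u) [CommRing Λ] (t : Λ)

/-- the deformed node -/
abbrev S : Type u := MvPowerSeries (Fin 2) Λ ⧸ Ideal.span {(X 0 * X 1 - C t : MvPowerSeries (Fin 2) Λ)}

variable {Λ t} [IsLocalRing Λ] [IsLocalRing (S Λ t)]

theorem mk_mem_max_iff (ht : t ∈ maximalIdeal Λ) (F : MvPowerSeries (Fin 2) Λ) :
    (Ideal.Quotient.mk _ F : S Λ t) ∈ maximalIdeal (S Λ t) ↔ constantCoeff F ∈ maximalIdeal Λ := by
  haveI : IsLocalHom (Ideal.Quotient.mk (Ideal.span {(X 0 * X 1 - C t : MvPowerSeries (Fin 2) Λ)})) :=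
    IsLocalHom.of_surjective _ Ideal.Quotient.mk_surjective
  rw [IsLocalRing.mem_maximalIdeal, IsLocalRing.mem_maximalIdeal, mem_nonunits_iff, mem_nonunits_iff,
    isUnit_map_iff, MvPowerSeries.isUnit_iff_constantCoeff]

theorem mk_X_mem (ht : t ∈ maximalIdeal Λ) (i : Fin 2) :
    (Ideal.Quotient.mk _ (X i) : S Λ t) ∈ maximalIdeal (S Λ t) :=
  (mk_mem_max_iff ht _).2 (by rw [MvPowerSeries.constantCoeff_X]; exact zero_mem _)

theorem exists_decomp (F : MvPowerSeries (Fin 2) Λ) :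
    ∃ G H : MvPowerSeries (Fin 2) Λ, F = C (constantCoeff F) + X 0 * G + X 1 * H := by
  have h := ArtLib.sub_C_constantCoeff_mem F
  rw [show Set.range (MvPowerSeries.X : Fin 2 → MvPowerSeries (Fin 2) Λ) = {X 0, X 1} by
    ext f; simp [Set.mem_range, Fin.exists_fin_two, eq_comm], Ideal.mem_span_pair] at h
  obtain ⟨G, H, e⟩ := h
  exact ⟨G, H, by linear_combination -e⟩

end Model

section Main

variable {Λ A : Type u} [CommRing Λ] [IsLocalRing Λ] [CommRing A] [IsLocalRing A]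
  {t : Λ} [IsLocalRing (S Λ t)]

/-- What we use of an identification of the completion of `A` with the deformed node. -/
structure Data (ψ : Λ →+* A) (t : Λ) [IsLocalRing (S Λ t)] where
  /-- the map to the model -/
  φ : A →+* S Λ t
  comp : ∀ c, φ (ψ c) = Ideal.Quotient.mk _ (C c)
  dense : ∀ (s : S Λ t) (n : ℕ), ∃ a, s - φ a ∈ maximalIdeal (S Λ t) ^ n
  closed : ∀ (a : A) (n : ℕ), φ a ∈ maximalIdeal (S Λ t) ^ n → a ∈ maximalIdeal A ^ n

variable {ψ : Λ →+* A} (δ : Data ψ t) (ht : t ∈ maximalIdeal Λ)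

include δ ht

theorem mem_max_of_psi (c : Λ) (hc : ψ c ∈ maximalIdeal A) : c ∈ maximalIdeal Λ := by
  by_contra h
  exact (IsLocalRing.mem_maximalIdeal _).1 hc ((IsLocalRing.notMem_maximalIdeal.1 h).map ψ)

/-- approximate coordinates -/
theorem exists_coords (n : ℕ) : ∃ x ∈ maximalIdeal A, ∃ y ∈ maximalIdeal A,
    δ.φ x - Ideal.Quotient.mk _ (X 0) ∈ maximalIdeal (S Λ t) ^ (n + 2) ∧
    δ.φ y - Ideal.Quotient.mk _ (X 1) ∈ maximalIdeal (S Λ t) ^ (n + 2) ∧
    (∀ a : A, ∃ (c : Λ) (α β : A), a - (ψ c + α * x + β * y) ∈ maximalIdeal A ^ 2) ∧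
    x * y - ψ t ∈ maximalIdeal A ^ (n + 1) := by
  obtain ⟨x, hx⟩ := δ.dense (Ideal.Quotient.mk _ (X 0)) (n + 2)
  obtain ⟨y, hy⟩ := δ.dense (Ideal.Quotient.mk _ (X 1)) (n + 2)
  set M := maximalIdeal (S Λ t) with hM
  set x₀ : S Λ t := Ideal.Quotient.mk _ (X 0) with hx₀
  set y₀ : S Λ t := Ideal.Quotient.mk _ (X 1) with hy₀
  have hx' : δ.φ x - x₀ ∈ M ^ (n + 2) := by simpa using neg_mem hx
  have hy' : δ.φ y - y₀ ∈ M ^ (n + 2) := by simpa using neg_mem hy
  have hxM : δ.φ x ∈ M := by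
    have h := add_mem (Ideal.pow_le_self (by omega) hx') (mk_X_mem ht 0)
    rwa [sub_add_cancel] at h
  have hyM : δ.φ y ∈ M := by
    have h := add_mem (Ideal.pow_le_self (by omega) hy') (mk_X_mem ht 1)
    rwa [sub_add_cancel] at h
  refine ⟨x, pow_one (maximalIdeal A) ▸ δ.closed x 1 (by rwa [pow_one]),
    y, pow_one (maximalIdeal A) ▸ δ.closed y 1 (by rwa [pow_one]), hx', hy', fun a => ?_, ?_⟩
  · obtain ⟨F, hF⟩ := Ideal.Quotient.mk_surjective (δ.φ a)
    obtain ⟨G, H, hGH⟩ := exists_decomp F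
    obtain ⟨α, hα⟩ := δ.dense (Ideal.Quotient.mk _ G) 1
    obtain ⟨β, hβ⟩ := δ.dense (Ideal.Quotient.mk _ H) 1
    rw [pow_one] at hα hβ
    refine ⟨constantCoeff F, α, β, δ.closed _ 2 ?_⟩
    have e : δ.φ (a - (ψ (constantCoeff F) + α * x + β * y)) =
        (Ideal.Quotient.mk _ G - δ.φ α) * x₀ + (Ideal.Quotient.mk _ H - δ.φ β) * y₀ -
          δ.φ α * (δ.φ x - x₀) - δ.φ β * (δ.φ y - y₀) := by
      rw [map_sub, map_add, map_add, map_mul, map_mul, δ.comp, ← hF]
      conv_lhs => arg 1; rw [hGH]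
      rw [map_add, map_add, map_mul, map_mul]
      ring
    rw [e]
    have h2 : M ^ (n + 2) ≤ M ^ 2 := Ideal.pow_le_pow_right (by omega)
    refine sub_mem (sub_mem (add_mem ?_ ?_) (Ideal.mul_mem_left _ _ (h2 hx'))) (Ideal.mul_mem_left _ _ (h2 hy'))
    · rw [pow_two]; exact Ideal.mul_mem_mul hα (mk_X_mem ht 0)
    · rw [pow_two]; exact Ideal.mul_mem_mul hβ (mk_X_mem ht 1)
  · refine δ.closed _ _ (Ideal.pow_le_pow_right (n + 1).le_succ ?_)
    have h0 : x₀ * y₀ = Ideal.Quotient.mk _ (C t) := by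
      rw [hx₀, hy₀, ← map_mul]
      exact Ideal.Quotient.eq.2 (Ideal.mem_span_singleton_self _)
    rw [map_sub, map_mul, δ.comp, ← h0,
      show δ.φ x * δ.φ y - x₀ * y₀ = δ.φ y * (δ.φ x - x₀) + x₀ * (δ.φ y - y₀) by ring]
    exact add_mem (Ideal.mul_mem_left _ _ hx') (Ideal.mul_mem_left _ _ hy')

/-- The closed fibre: reduced of dimension one, with a regular element. -/
theorem closedFibre [IsNoetherianRing A] [IsNoetherianRing Λ] (hψ : (maximalIdeal Λ).map ψ ≤ maximalIdeal A) :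
    haveI : Nontrivial (A ⧸ (maximalIdeal Λ).map ψ) :=
      Ideal.Quotient.nontrivial_iff.2 fun h => (maximalIdeal.isMaximal A).ne_top (top_le_iff.1 (h ▸ hψ))
    haveI : IsLocalRing (A ⧸ (maximalIdeal Λ).map ψ) := IsLocalRing.of_surjective' _ Ideal.Quotient.mk_surjective
    CommAlgDim.IsCM (A ⧸ (maximalIdeal Λ).map ψ) ∧ ringKrullDim (A ⧸ (maximalIdeal Λ).map ψ) = 1 := by
  set I := (maximalIdeal Λ).map ψ with hI
  haveI : Nontrivial (A ⧸ I) :=
    Ideal.Quotient.nontrivial_iff.2 fun h => (maximalIdeal.isMaximal A).ne_top (top_le_iff.1 (h ▸ hψ))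
  haveI : IsLocalRing (A ⧸ I) := IsLocalRing.of_surjective' _ Ideal.Quotient.mk_surjective
  let k := ResidueField Λ
  haveI := NodalLib.isLocalRing_R k
  set M := maximalIdeal (S Λ t) with hM
  let r : Λ →+* k := residue Λ
  let ρ : S Λ t →+* NodalLib.R k := Ideal.Quotient.lift _
    ((Ideal.Quotient.mk _).comp (MvPowerSeries.map r)) fun F hF => by
      obtain ⟨G, rfl⟩ := Ideal.mem_span_singleton'.1 hF
      rw [RingHom.comp_apply, Ideal.Quotient.eq_zero_iff_mem, map_mul, map_sub, map_mul, MvPowerSeries.map_X,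
        MvPowerSeries.map_X, MvPowerSeries.map_C, (IsLocalRing.residue_eq_zero_iff t).2 ht, map_zero, sub_zero]
      exact Ideal.mem_span_singleton'.2 ⟨_, rfl⟩
  have hρ : ∀ F, ρ (Ideal.Quotient.mk _ F) = Ideal.Quotient.mk _ (MvPowerSeries.map r F) := fun F => rfl
  have hρM : ∀ s ∈ M, ρ s ∈ maximalIdeal (NodalLib.R k) := fun s hs => by
    obtain ⟨F, rfl⟩ := Ideal.Quotient.mk_surjective s
    rw [hρ, NodalLib.mk_mem_max_iff, MvPowerSeries.constantCoeff_map]
    exact (IsLocalRing.residue_eq_zero_iff _).2 ((mk_mem_max_iff ht F).1 hs)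
  have hρC : ∀ c, ρ (δ.φ (ψ c)) = Ideal.Quotient.mk _ (C (r c)) := fun c => by
    rw [δ.comp, hρ, MvPowerSeries.map_C]
  have hIker : ∀ a ∈ I, ρ (δ.φ a) = 0 := by
    intro a ha
    refine (Ideal.map_le_iff_le_comap (K := RingHom.ker (ρ.comp δ.φ))).2 (fun c hc => ?_) ha
    show ρ (δ.φ (ψ c)) = 0
    rw [hρC, (IsLocalRing.residue_eq_zero_iff c).2 hc, map_zero, map_zero]
  -- kernel of `ρ`
  obtain ⟨N, g, hg⟩ := Submodule.fg_iff_exists_fin_generating_family.1 (IsNoetherian.noetherian (maximalIdeal Λ))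
  have hker : ∀ s, ρ s = 0 → s ∈ I.map δ.φ := fun s hs => by
    obtain ⟨F, rfl⟩ := Ideal.Quotient.mk_surjective s
    rw [hρ, Ideal.Quotient.eq_zero_iff_mem, Ideal.mem_span_singleton'] at hs
    obtain ⟨G', hG'⟩ := hs
    have hsurj : Function.Surjective (MvPowerSeries.map (σ := Fin 2) r) := fun T => by
      choose T' hT' using fun d => residue_surjective (R := Λ) (coeff d T)
      exact ⟨(fun d => T' d : MvPowerSeries (Fin 2) Λ), MvPowerSeries.ext fun d => by rw [coeff_map]; exact hT' d⟩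
    obtain ⟨G, rfl⟩ := hsurj G'
    set F' := F - G * (X 0 * X 1 - C t) with hF'
    have hmap : MvPowerSeries.map r F' = 0 := by
      rw [hF', map_sub, map_mul, map_sub, map_mul, MvPowerSeries.map_X, MvPowerSeries.map_X, MvPowerSeries.map_C,
        (IsLocalRing.residue_eq_zero_iff t).2 ht, map_zero, sub_zero]
      exact sub_eq_zero.2 hG'.symm
    have hc : ∀ d, ∃ a : Fin N → Λ, ∑ i, a i • g i = coeff d F' := fun d => by
      rw [← Submodule.mem_span_range_iff_exists_fun, hg]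
      refine (IsLocalRing.residue_eq_zero_iff _).1 ?_
      rw [← coeff_map, hmap, map_zero]
    choose a ha using hc
    have e : F' = ∑ i, C (g i) * (show MvPowerSeries (Fin 2) Λ from fun d => a d i) := MvPowerSeries.ext fun d => by
      rw [map_sum, ← ha d]
      exact Finset.sum_congr rfl fun i _ => by rw [coeff_C_mul, smul_eq_mul, mul_comm]; rfl
    have e2 : (Ideal.Quotient.mk _ F : S Λ t) = Ideal.Quotient.mk _ F' :=
      Ideal.Quotient.eq.2 (by rw [hF', sub_sub_cancel]; exact Ideal.mul_mem_left _ _ (Ideal.mem_span_singleton_self _))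
    rw [e2, e, map_sum]
    refine Ideal.sum_mem _ fun i _ => ?_
    rw [map_mul, ← δ.comp]
    refine Ideal.mul_mem_right _ _ (Ideal.mem_map_of_mem _ (Ideal.mem_map_of_mem _ ?_))
    rw [← hg]; exact Submodule.subset_span ⟨i, rfl⟩
  -- `A / I` embeds in the double point
  let θ : A ⧸ I →+* NodalLib.R k := Ideal.Quotient.lift I (ρ.comp δ.φ) hIker
  have hθ : Function.Injective θ := by
    rw [injective_iff_map_eq_zero]
    intro q hq
    obtain ⟨a, rfl⟩ := Ideal.Quotient.mk_surjective q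
    have h1 := hker _ hq
    have h2 : ∀ n : ℕ, ∀ z ∈ I.map δ.φ, ∃ i ∈ I, z - δ.φ i ∈ M ^ n := fun n z hz => by
      refine Submodule.span_induction ?_ ?_ ?_ ?_ hz
      · rintro _ ⟨i, hi, rfl⟩; exact ⟨i, hi, by simp⟩
      · exact ⟨0, zero_mem _, by simp⟩
      · rintro p q _ _ ⟨i, hi, hp⟩ ⟨j, hj, hq⟩
        exact ⟨i + j, add_mem hi hj, by rw [map_add]; simpa [add_sub_add_comm] using add_mem hp hq⟩
      · rintro s p _ ⟨i, hi, hp⟩
        obtain ⟨b, hb⟩ := δ.dense s n
        refine ⟨b * i, Ideal.mul_mem_left _ _ hi, ?_⟩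
        rw [map_mul, smul_eq_mul, show s * p - δ.φ b * δ.φ i = s * (p - δ.φ i) + δ.φ i * (s - δ.φ b) by ring]
        exact add_mem (Ideal.mul_mem_left _ _ hp) (Ideal.mul_mem_left _ _ hb)
    have hm : Ideal.Quotient.mk I a ∈ ⨅ n : ℕ, maximalIdeal A ^ n • (⊤ : Submodule A (A ⧸ I)) := by
      refine Submodule.mem_iInf _ |>.2 fun n => ?_
      obtain ⟨i, hi, h⟩ := h2 n _ h1
      rw [← map_sub] at h
      have h' := Submodule.smul_mem_smul (δ.closed _ n h) (Submodule.mem_top (R := A) (x := (1 : A ⧸ I)))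
      rwa [Algebra.smul_def, mul_one, Ideal.Quotient.algebraMap_eq, map_sub,
        Ideal.Quotient.eq_zero_iff_mem.2 hi, sub_zero] at h'
    rwa [Ideal.iInf_pow_smul_eq_bot_of_isLocalRing _ (maximalIdeal.isMaximal A).ne_top, Submodule.mem_bot] at hm
  -- the regular element
  obtain ⟨x, hxm, y, hym, hx, hy, hgen, hxy⟩ := exists_coords δ ht 2
  set z : A ⧸ I := Ideal.Quotient.mk I (x + y) with hz
  have hzm : z ∈ maximalIdeal (A ⧸ I) := by
    rw [hz, ← map_maximalIdeal_of_surjective (Ideal.Quotient.mk I) Ideal.Quotient.mk_surjective]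
    exact Ideal.mem_map_of_mem _ (add_mem hxm hym)
  have hzr : IsSMulRegular (A ⧸ I) z := by
    refine isSMulRegular_iff_right_eq_zero_of_smul.2 fun w hw => hθ ?_
    rw [map_zero]
    rw [smul_eq_mul] at hw
    have h := congrArg θ hw
    rw [map_mul, map_zero] at h
    obtain ⟨F, hF⟩ := Ideal.Quotient.mk_surjective (θ z)
    obtain ⟨W, hW⟩ := Ideal.Quotient.mk_surjective (θ w)
    have hsq : Ideal.Quotient.mk (Ideal.span {NodalLib.xy k}) (F - (X 0 + X 1)) ∈ maximalIdeal (NodalLib.R k) ^ 2 := by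
      rw [map_sub, hF]
      have h' : (δ.φ x - Ideal.Quotient.mk _ (X 0)) + (δ.φ y - Ideal.Quotient.mk _ (X 1)) ∈ M ^ 2 :=
        Ideal.pow_le_pow_right (by omega) (add_mem hx hy)
      have h'' := Ideal.pow_right_mono (show M.map ρ ≤ maximalIdeal (NodalLib.R k) from Ideal.map_le_iff_le_comap.2 hρM) 2
        (Ideal.map_pow ρ M 2 ▸ Ideal.mem_map_of_mem ρ h')
      convert h'' using 1
      rw [map_add ρ, map_sub ρ, map_sub ρ, hρ, hρ, MvPowerSeries.map_X, MvPowerSeries.map_X]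
      show θ (Ideal.Quotient.mk I (x + y)) - _ = _
      rw [show θ (Ideal.Quotient.mk I (x + y)) = ρ (δ.φ (x + y)) from rfl, map_add, map_add, map_add]
      ring
    rw [← hF, ← hW, ← map_mul, Ideal.Quotient.eq_zero_iff_mem, Ideal.mem_span_singleton, NodalLib.xy_dvd_iff] at h
    rw [← hW, Ideal.Quotient.eq_zero_iff_mem, Ideal.mem_span_singleton, NodalLib.xy_dvd_iff]
    have key : ∀ i : Fin 2, (X i : MvPowerSeries (Fin 2) k) ∣ F * W → (X i : MvPowerSeries (Fin 2) k) ∣ W := fun i hi => by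
      refine (NodalLib.X_dvd_mul k hi).resolve_left fun hd => ?_
      have h0 := NodalLib.coeff_single_of_mem_sq k hsq i.rev
      rw [map_sub, (MvPowerSeries.X_dvd_iff.mp hd) (Finsupp.single i.rev 1)
        (Finsupp.single_eq_of_ne (by fin_cases i <;> decide))] at h0
      fin_cases i <;> simp [MvPowerSeries.coeff_X, Finsupp.single_eq_single_iff] at h0
    exact ⟨key 0 h.1, key 1 h.2⟩
  -- modulo it the ring is Artinian
  set J := I ⊔ Ideal.span {x + y} with hJ
  have hsq : maximalIdeal A ^ 2 ≤ J := by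
    have hmI : maximalIdeal A ≤ (Ideal.span {x} ⊔ J) ⊔ maximalIdeal A ^ 2 := fun a ha => by
      obtain ⟨c, α, β, h⟩ := hgen a
      have hc : ψ c ∈ maximalIdeal A := by
        have h' := sub_mem (sub_mem (sub_mem ha (Ideal.pow_le_self two_ne_zero h))
          (Ideal.mul_mem_left _ α hxm)) (Ideal.mul_mem_left _ β hym)
        rwa [show a - (a - (ψ c + α * x + β * y)) - α * x - β * y = ψ c by ring] at h'
      have e : a = ((α - β) * x + (ψ c + β * (x + y))) + (a - (ψ c + α * x + β * y)) := by ring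
      rw [e]
      exact Submodule.add_mem_sup (Submodule.add_mem_sup (Ideal.mul_mem_left _ _ (Ideal.mem_span_singleton_self _))
        (add_mem (Ideal.mem_sup_left (Ideal.mem_map_of_mem _ (mem_max_of_psi δ ht c hc)))
          (Ideal.mem_sup_right (Ideal.mul_mem_left _ _ (Ideal.mem_span_singleton_self _))))) h
    have hxx : x * x ∈ J ⊔ maximalIdeal A ^ 3 := by
      rw [show x * x = (x * (x + y) - ψ t) + (-(x * y - ψ t)) by ring]
      exact Submodule.add_mem_sup (sub_mem (Ideal.mem_sup_right (Ideal.mul_mem_left _ _ (Ideal.mem_span_singleton_self _)))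
        (Ideal.mem_sup_left (Ideal.mem_map_of_mem _ ht))) (neg_mem hxy)
    have h2 : maximalIdeal A ^ 2 ≤ J ⊔ maximalIdeal A • maximalIdeal A ^ 2 := by
      rw [smul_eq_mul, ← pow_succ']
      refine le_of_eq_of_le (pow_two _) (Ideal.mul_le.2 fun a ha b hb => ?_)
      obtain ⟨a₁, ha₁, a₂, ha₂, rfl⟩ := Submodule.mem_sup.1 (hmI ha)
      obtain ⟨a₀, ha₀, a₃, ha₃, rfl⟩ := Submodule.mem_sup.1 ha₁
      obtain ⟨α, rfl⟩ := Ideal.mem_span_singleton'.1 ha₀
      obtain ⟨b₁, hb₁, b₂, hb₂, rfl⟩ := Submodule.mem_sup.1 (hmI hb)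
      obtain ⟨b₀, hb₀, b₃, hb₃, rfl⟩ := Submodule.mem_sup.1 hb₁
      obtain ⟨β, rfl⟩ := Ideal.mem_span_singleton'.1 hb₀
      have hm3 : ∀ p ∈ maximalIdeal A ^ 2, ∀ q ∈ maximalIdeal A, p * q ∈ J ⊔ maximalIdeal A ^ 3 := fun p hp q hq =>
        Ideal.mem_sup_right (by rw [pow_succ]; exact Ideal.mul_mem_mul hp hq)
      rw [show (α * x + a₃ + a₂) * (β * x + b₃ + b₂) =
        (α * β) * (x * x) + (a₃ * (β * x + b₃ + b₂) + b₃ * (α * x)) + (a₂ * (β * x + b₃ + b₂) + b₂ * (α * x) - b₂ * 0) +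
          (b₃ * 0) by ring]
      refine add_mem (add_mem (add_mem (Ideal.mul_mem_left _ _ hxx)
        (add_mem (Ideal.mem_sup_left (Ideal.mul_mem_right _ _ ha₃)) (Ideal.mem_sup_left (Ideal.mul_mem_right _ _ hb₃)))) ?_) (by simp)
      simp only [mul_zero, sub_zero]
      exact add_mem (hm3 _ ha₂ _ hb) (hm3 _ hb₂ _ (Ideal.mul_mem_left _ _ hxm))
    exact Submodule.le_of_le_smul_of_le_jacobson_bot (IsNoetherian.noetherian _)
      (IsLocalRing.maximalIdeal_le_jacobson ⊥) h2
  have h0 : Ring.KrullDimLE 0 ((A ⧸ I) ⧸ Ideal.span {z}) := by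
    refine Ring.KrullDimLE.mk₀ fun P hP => ?_
    let f : A →+* (A ⧸ I) ⧸ Ideal.span {z} := (Ideal.Quotient.mk _).comp (Ideal.Quotient.mk I)
    have hf : Function.Surjective f := Ideal.Quotient.mk_surjective.comp Ideal.Quotient.mk_surjective
    have hJP : J ≤ P.comap f := by
      refine sup_le (fun i hi => ?_) (Ideal.span_le.2 (Set.singleton_subset_iff.2 ?_))
      · show Ideal.Quotient.mk _ (Ideal.Quotient.mk I i) ∈ P
        rw [Ideal.Quotient.eq_zero_iff_mem.2 hi, map_zero]; exact zero_mem _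
      · show Ideal.Quotient.mk _ z ∈ P
        rw [Ideal.Quotient.eq_zero_iff_mem.2 (Ideal.mem_span_singleton_self z)]; exact zero_mem _
    have hmax : P.comap f = maximalIdeal A :=
      le_antisymm (IsLocalRing.le_maximalIdeal Ideal.IsPrime.ne_top')
        ((Ideal.IsPrime.pow_le_iff two_ne_zero).1 (hsq.trans hJP))
    haveI : (P.comap f).IsMaximal := hmax ▸ maximalIdeal.isMaximal A
    rw [← Ideal.map_comap_of_surjective f hf P]
    exact (Ideal.map_eq_top_or_isMaximal_of_surjective f hf inferInstance).resolve_left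
      (by rw [Ideal.map_comap_of_surjective f hf P]; exact hP.ne_top)
  have hne : (Ideal.span {z} : Ideal (A ⧸ I)) ≠ ⊤ := fun h =>
    (maximalIdeal.isMaximal _).ne_top (top_le_iff.1 (h ▸ (Ideal.span_singleton_le_iff_mem _).2 hzm))
  haveI : Nontrivial ((A ⧸ I) ⧸ Ideal.span {z}) := Ideal.Quotient.nontrivial_iff.2 hne
  have hd := ringKrullDim_quotient_span_singleton_succ_eq_ringKrullDim hzr hzm
  rw [ringKrullDimZero_iff_ringKrullDim_eq_zero.1 h0, zero_add] at hd
  refine ⟨⟨[z], ?_, by rw [← hd]; rfl⟩, hd.symm⟩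
  exact (IsLocalRing.isRegular_iff_isWeaklyRegular_of_subset_maximalIdeal (by simpa using hzm)).2
    ((RingTheory.Sequence.isWeaklyRegular_singleton_iff _ _).2 hzr)

end Main

/-- The data attached to an identification of the completion. -/
theorem exists_data {Λ A : Type u} [CommRing Λ] [CommRing A] [IsLocalRing A] [IsNoetherianRing A] (t : Λ)
    (ψ : Λ →+* A) (e : AdicCompletion (maximalIdeal A) A ≃+* S Λ t)
    (he : ∀ c, e (algebraMap A _ (ψ c)) = Ideal.Quotient.mk _ (C c)) :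
    ∃ _ : IsLocalRing (S Λ t), Nonempty (Data ψ t) := by
  obtain ⟨hBl, hBn, hBh, hmax, -⟩ := CohenLib.completion_facts A (maximalIdeal A) (maximalIdeal.isMaximal A).ne_top
  haveI : IsLocalRing (S Λ t) := e.isLocalRing
  refine ⟨this, ⟨⟨e.toRingHom.comp (algebraMap A _), he, fun s n => ?_, fun a n ha => ?_⟩⟩⟩
  · obtain ⟨a, ha⟩ := Submodule.Quotient.mk_surjective _ (AdicCompletion.eval (maximalIdeal A) A n (e.symm s))
    have h : e.symm s - algebraMap A _ a ∈ (AdicCompletion.eval (maximalIdeal A) A n).ker := by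
      rw [LinearMap.mem_ker, map_sub, ← ha]
      exact sub_eq_zero.2 rfl
    rw [← AdicCompletion.pow_smul_top_eq_ker_eval (maximalIdeal A).fg_of_isNoetherianRing,
      Ideal.smul_top_eq_map, Submodule.restrictScalars_mem, Ideal.map_pow, hmax] at h
    refine ⟨a, ?_⟩
    have h' := Ideal.mem_map_of_mem e.toRingHom h
    rw [Ideal.map_pow, ← map_maximalIdeal_of_surjective e.toRingHom e.surjective] at *
    simpa using h'
  · rw [← map_maximalIdeal_of_surjective e.toRingHom e.surjective, ← Ideal.map_pow,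
      RingHom.comp_apply, Ideal.mem_map_iff_of_surjective e.toRingHom e.surjective] at ha
    obtain ⟨b, hb, hba⟩ := ha
    rw [show b = algebraMap A _ a from e.injective hba, ← hmax, ← Ideal.map_pow] at hb
    have h : AdicCompletion.of (maximalIdeal A) A a ∈ (AdicCompletion.eval (maximalIdeal A) A n).ker := by
      rw [← AdicCompletion.pow_smul_top_eq_ker_eval (maximalIdeal A).fg_of_isNoetherianRing,
        Ideal.smul_top_eq_map, Submodule.restrictScalars_mem]
      exact hb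
    rw [LinearMap.mem_ker, AdicCompletion.eval_of] at h
    have h' := (Submodule.Quotient.mk_eq_zero _).1 h
    rwa [smul_eq_mul, Ideal.mul_top] at h'

end NodeDefSmoothLib
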