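import Mathlib

/-! Differentials near a deformed node: at a prime missing the parameter one differential spans. -/

set_option autoImplicit false
set_option backward.isDefEq.respectTransparency false
set_option backward.isDefEq.respectTransparency.types false

universe u

open IsLocalRing KaehlerDifferential TensorProduct

noncomputable section

namespace NodeDefSmoothLib

section Local

variable {R A : Type u} [CommRing R] [CommRing A] [Algebra R A] [IsLocalRing A]

theorem D_mem_pow_smul (n : ℕ) :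
    ∀ z ∈ maximalIdeal A ^ (n + 1), D R A z ∈ (maximalIdeal A ^ n • ⊤ : Submodule A (Ω[A⁄R])) := by
  induction n with
  | zero => intro z _; simp
  | succ n ih =>
    intro z hz
    rw [pow_succ] at hz
    refine Submodule.mul_induction_on hz (fun a ha b hb => ?_) (fun a b ha hb => by rw [map_add]; exact add_mem ha hb)
    rw [Derivation.leibniz]
    refine add_mem (Submodule.smul_mem_smul ha Submodule.mem_top) ?_
    have h := Submodule.smul_mem_smul hb (ih a ha)
    rwa [← Submodule.smul_assoc, smul_eq_mul, mul_comm, ← pow_succ] at h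

/-- two elements whose differentials generate -/
theorem span_D_eq_top [Algebra.EssFiniteType R A] (x y : A)
    (hgen : ∀ a : A, ∃ (r : R) (α β : A), a - (algebraMap R A r + α * x + β * y) ∈ maximalIdeal A ^ 2)
    (hx : x ∈ maximalIdeal A) (hy : y ∈ maximalIdeal A) :
    Submodule.span A {D R A x, D R A y} = ⊤ := by
  refine top_le_iff.1 (Submodule.le_of_le_smul_of_le_jacobson_bot Module.Finite.fg_top
    (IsLocalRing.maximalIdeal_le_jacobson ⊥) ?_)
  rw [← KaehlerDifferential.span_range_derivation, Submodule.span_le]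
  rintro _ ⟨a, rfl⟩
  obtain ⟨r, α, β, h⟩ := hgen a
  have h1 := D_mem_pow_smul (R := R) 1 _ h
  rw [pow_one, map_sub, map_add, map_add, Derivation.map_algebraMap, zero_add, Derivation.leibniz,
    Derivation.leibniz] at h1
  rw [KaehlerDifferential.span_range_derivation]
  show D R A a ∈ Submodule.span A {D R A x, D R A y} ⊔ maximalIdeal A • ⊤
  have h2 : α • D R A x + β • D R A y ∈ Submodule.span A {D R A x, D R A y} :=
    add_mem (Submodule.smul_mem _ _ (Submodule.subset_span (Set.mem_insert _ _)))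
      (Submodule.smul_mem _ _ (Submodule.subset_span (Set.mem_insert_of_mem _ rfl)))
  have h3 : x • D R A α + y • D R A β ∈ (maximalIdeal A • ⊤ : Submodule A (Ω[A⁄R])) :=
    add_mem (Submodule.smul_mem_smul hx Submodule.mem_top) (Submodule.smul_mem_smul hy Submodule.mem_top)
  have e : D R A a = (α • D R A x + β • D R A y) +
      ((D R A a - (α • D R A x + x • D R A α + (β • D R A y + y • D R A β))) +
        (x • D R A α + y • D R A β)) := by abel
  rw [e]
  exact Submodule.add_mem_sup h2 (add_mem h1 h3)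

/-- the relation between the two differentials -/
theorem exists_relation [Algebra.EssFiniteType R A] (x y : A) (r₀ : R) (n : ℕ)
    (hgen : ∀ a : A, ∃ (r : R) (α β : A), a - (algebraMap R A r + α * x + β * y) ∈ maximalIdeal A ^ 2)
    (hx : x ∈ maximalIdeal A) (hy : y ∈ maximalIdeal A)
    (hrel : x * y - algebraMap R A r₀ ∈ maximalIdeal A ^ (n + 1)) :
    ∃ ε₁ ∈ maximalIdeal A ^ n, ∃ ε₂ ∈ maximalIdeal A ^ n, (y - ε₁) • D R A x + (x - ε₂) • D R A y = 0 := by
  have h := D_mem_pow_smul (R := R) n _ hrel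
  rw [← span_D_eq_top x y hgen hx hy, Submodule.span_insert, Submodule.smul_sup] at h
  obtain ⟨p, hp, q, hq, hpq⟩ := Submodule.mem_sup.1 h
  obtain ⟨ε₁, h₁, rfl⟩ := Submodule.mem_smul_span_singleton.1 hp
  obtain ⟨ε₂, h₂, rfl⟩ := Submodule.mem_smul_span_singleton.1 hq
  refine ⟨ε₁, h₁, ε₂, h₂, ?_⟩
  rw [map_sub, Derivation.map_algebraMap, sub_zero, Derivation.leibniz] at hpq
  rw [sub_smul, sub_smul]
  linear_combination (norm := abel) hpq.symm

end Local

/-- The main statement: `B` of finite type, `A` its localization, `q` a prime not containing `r₀`. -/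
theorem finrank_le_one {R B A : Type u} [CommRing R] [CommRing B] [CommRing A] [Algebra R B] [Algebra R A]
    [Algebra B A] [IsScalarTower R B A] [IsLocalRing A] [IsNoetherianRing A] [Algebra.EssFiniteType R A]
    (𝔭 : Ideal B) [𝔭.IsPrime] [IsLocalization 𝔭.primeCompl A] (q : Ideal B) [q.IsPrime] (hq : q ≤ 𝔭)
    (r₀ : R) (hr₀ : algebraMap R B r₀ ∉ q)
    (H : ∀ n : ℕ, ∃ x ∈ maximalIdeal A, ∃ y ∈ maximalIdeal A,
      (∀ a : A, ∃ (r : R) (α β : A), a - (algebraMap R A r + α * x + β * y) ∈ maximalIdeal A ^ 2) ∧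
      x * y - algebraMap R A r₀ ∈ maximalIdeal A ^ (n + 1)) :
    Module.finrank q.ResidueField (q.ResidueField ⊗[B] Ω[B⁄R]) ≤ 1 := by
  have hunit : ∀ s : 𝔭.primeCompl, IsUnit (algebraMap B q.ResidueField s) := fun s =>
    isUnit_iff_ne_zero.2 fun h => s.2 (hq (Ideal.algebraMap_residueField_eq_zero.1 h))
  let g : A →+* q.ResidueField := IsLocalization.lift (M := 𝔭.primeCompl) hunit
  have hg : ∀ b, g (algebraMap B A b) = algebraMap B q.ResidueField b := IsLocalization.lift_eq _
  have hQ : g (algebraMap R A r₀) ≠ 0 := by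
    rw [IsScalarTower.algebraMap_apply R B A, hg]
    exact fun h => hr₀ (Ideal.algebraMap_residueField_eq_zero.1 h)
  -- Krull: some relation has a non-zero coefficient
  obtain ⟨n, hn⟩ : ∃ n, algebraMap R A r₀ ∉ RingHom.ker g ⊔ maximalIdeal A ^ n := by
    by_contra hcon
    push Not at hcon
    haveI : (RingHom.ker g).IsPrime := RingHom.ker_isPrime g
    have hle : RingHom.ker g ≤ maximalIdeal A := IsLocalRing.le_maximalIdeal Ideal.IsPrime.ne_top'
    have hm : (Ideal.Quotient.mk (RingHom.ker g) (algebraMap R A r₀)) ∈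
        (⨅ n : ℕ, maximalIdeal A ^ n • (⊤ : Submodule A (A ⧸ RingHom.ker g))) := by
      refine Submodule.mem_iInf _ |>.2 fun n => ?_
      obtain ⟨a, ha, b, hb, e⟩ := Submodule.mem_sup.1 (hcon n)
      rw [← e, map_add, Ideal.Quotient.eq_zero_iff_mem.2 ha, zero_add]
      have h := Submodule.smul_mem_smul hb (Submodule.mem_top (R := A) (x := (1 : A ⧸ RingHom.ker g)))
      rwa [Algebra.smul_def, mul_one] at h
    rw [Ideal.iInf_pow_smul_eq_bot_of_isLocalRing _ (maximalIdeal.isMaximal A).ne_top, Submodule.mem_bot,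
      Ideal.Quotient.eq_zero_iff_mem] at hm
    exact hQ hm
  obtain ⟨x, hx, y, hy, hgen, hrel⟩ := H (n + 1)
  obtain ⟨ε₁, h₁, ε₂, h₂, hzero⟩ := exists_relation x y r₀ (n + 1) hgen hx hy hrel
  have hne : g (y - ε₁) ≠ 0 ∨ g (x - ε₂) ≠ 0 := by
    by_contra hcon
    push Not at hcon
    refine hn ?_
    have e1 : maximalIdeal A ^ (n + 1) ≤ RingHom.ker g ⊔ maximalIdeal A ^ n :=
      (Ideal.pow_le_pow_right n.le_succ).trans le_sup_right
    have e2 : maximalIdeal A ^ (n + 1 + 1) ≤ RingHom.ker g ⊔ maximalIdeal A ^ n :=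
      (Ideal.pow_le_pow_right (by omega)).trans le_sup_right
    have hx' : x ∈ RingHom.ker g ⊔ maximalIdeal A ^ n := by
      simpa using add_mem (Submodule.mem_sup_left (T := maximalIdeal A ^ n)
        (show x - ε₂ ∈ RingHom.ker g from hcon.2)) (e1 h₂)
    have h := sub_mem (Ideal.mul_mem_right y _ hx') (e2 hrel)
    simpa using h
  -- extend `b ↦ 1 ⊗ db` to the localization
  let K := q.ResidueField
  let M := K ⊗[B] Ω[B⁄R]
  have hu : ∀ s : 𝔭.primeCompl, IsUnit (algebraMap B (Module.End B M) s) := fun s => by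
    rw [Module.End.isUnit_iff]
    obtain ⟨w, hw⟩ := hunit s
    refine Function.bijective_iff_has_inverse.2 ⟨fun m => (↑w⁻¹ : K) • m, fun m => ?_, fun m => ?_⟩
    · show (↑w⁻¹ : K) • ((s : B) • m) = m
      rw [← algebraMap_smul K (s : B) m, ← hw, smul_smul, Units.inv_mul, one_smul]
    · show (s : B) • ((↑w⁻¹ : K) • m) = m
      rw [← algebraMap_smul K (s : B) ((↑w⁻¹ : K) • m), ← hw, smul_smul, Units.mul_inv, one_smul]
  haveI : IsLocalizedModule 𝔭.primeCompl (KaehlerDifferential.map R R B A) :=
    KaehlerDifferential.isLocalizedModule_map (M := 𝔭.primeCompl) ..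
  let L : Ω[A⁄R] →ₗ[B] M := IsLocalizedModule.lift 𝔭.primeCompl (KaehlerDifferential.map R R B A)
    (TensorProduct.mk B K (Ω[B⁄R]) 1) hu
  have hL : ∀ b : B, L (D R A (algebraMap B A b)) = (1 : K) ⊗ₜ[B] D R B b := fun b => by
    rw [← KaehlerDifferential.map_D R R B A]
    exact LinearMap.congr_fun (IsLocalizedModule.lift_comp _ _ _ hu) _
  have hsemi : ∀ (a : A) (ω : Ω[A⁄R]), L (a • ω) = g a • L ω := fun a ω => by
    obtain ⟨b, s, rfl⟩ := IsLocalization.exists_mk'_eq 𝔭.primeCompl a
    have h1 : (s : B) • L (IsLocalization.mk' A b s • ω) = b • L ω := by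
      rw [← map_smul, ← map_smul, ← algebraMap_smul A (s : B) (IsLocalization.mk' A b s • ω), smul_smul,
        IsLocalization.mk'_spec', algebraMap_smul]
    have h2 : algebraMap B K (s : B) * g (IsLocalization.mk' A b s) = algebraMap B K b := by
      rw [← hg, ← map_mul, IsLocalization.mk'_spec', hg]
    rw [← algebraMap_smul K (s : B), ← algebraMap_smul K b, ← h2, ← smul_smul] at h1
    exact (hunit s).smul_left_cancel.1 h1
  obtain ⟨v, hv⟩ : ∃ v : M, L (D R A x) ∈ Submodule.span K {v} ∧ L (D R A y) ∈ Submodule.span K {v} := by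
    have h := congrArg L hzero
    rw [map_add, hsemi, hsemi, map_zero, add_eq_zero_iff_eq_neg] at h
    rcases hne with hc | hc
    · refine ⟨L (D R A y), ?_, Submodule.mem_span_singleton_self _⟩
      have e := congrArg ((g (y - ε₁))⁻¹ • ·) h
      simp only [smul_smul, inv_mul_cancel₀ hc, one_smul] at e
      rw [e, smul_neg, smul_smul]
      exact neg_mem (Submodule.smul_mem _ _ (Submodule.mem_span_singleton_self _))
    · refine ⟨L (D R A x), Submodule.mem_span_singleton_self _, ?_⟩
      have e : g (x - ε₂) • L (D R A y) = -(g (y - ε₁) • L (D R A x)) := by rw [h, neg_neg]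
      rw [← inv_smul_smul₀ hc (L (D R A y)), e, smul_neg, smul_smul]
      exact neg_mem (Submodule.smul_mem _ _ (Submodule.mem_span_singleton_self _))
  have hspan : ∀ ω : Ω[A⁄R], L ω ∈ Submodule.span K {v} := fun ω => by
    have h : ω ∈ Submodule.span A {D R A x, D R A y} := by rw [span_D_eq_top x y hgen hx hy]; trivial
    obtain ⟨α, β, rfl⟩ := Submodule.mem_span_pair.1 h
    rw [map_add, hsemi, hsemi]
    exact add_mem (Submodule.smul_mem _ _ hv.1) (Submodule.smul_mem _ _ hv.2)
  have key : ∀ ω : Ω[B⁄R], (1 : K) ⊗ₜ[B] ω ∈ Submodule.span K {v} := fun ω => by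
    have h := hspan (KaehlerDifferential.map R R B A ω)
    rwa [show L (KaehlerDifferential.map R R B A ω) = (1 : K) ⊗ₜ[B] ω from
      LinearMap.congr_fun (IsLocalizedModule.lift_comp _ _ _ hu) ω] at h
  refine _root_.finrank_le_one v fun w => Submodule.mem_span_singleton.1 ?_
  induction w using TensorProduct.induction_on with
  | zero => exact zero_mem _
  | tmul c ω =>
    have e : c ⊗ₜ[B] ω = c • ((1 : K) ⊗ₜ[B] ω) := by rw [TensorProduct.smul_tmul', smul_eq_mul, mul_one]
    rw [e]; exact Submodule.smul_mem _ c (key ω)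
  | add a b ha hb => exact add_mem ha hb

end NodeDefSmoothLib
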